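import Groth.Prelude.Def_PolLaw
import Mathlib.LinearAlgebra.Vandermonde
import Mathlib.RingTheory.Localization.AtPrime.Basic
import Mathlib.Algebra.Module.LocalizedModule.AtPrime
import Mathlib.RingTheory.LocalRing.ResidueField.Ideal
import Mathlib.SetTheory.Cardinal.Finite

/-!
When is `Γ^d(M)` spanned by `γ_d(m)`?
-/

set_option linter.unusedSectionVars false
set_option autoImplicit false

universe u

open DividedPowerAlgebra

namespace Groth.Agent.GammaSpan95

variable {A M : Type u} [CommRing A] [AddCommGroup M] [Module A M] (p : Ideal A) [p.IsPrime]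

/-- The span of the `e`-th divided powers, locally at `p`. -/
def locSpan (e : ℕ) : Submodule A (DividedPowerAlgebra A M) where
  carrier := {z | ∃ s, s ∉ p ∧ s • z ∈ Submodule.span A (Set.range (dp A e : M → DividedPowerAlgebra A M))}
  zero_mem' := ⟨1, fun h => (inferInstance : p.IsPrime).ne_top ((Ideal.eq_top_iff_one _).mpr h), by simp⟩
  add_mem' := by
    rintro a b ⟨s, hs, ha⟩ ⟨t, ht, hb⟩
    refine ⟨s * t, fun h => ((inferInstance : p.IsPrime).mem_or_mem h).elim hs ht, ?_⟩
    rw [smul_add]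
    refine add_mem ?_ ?_
    · rw [mul_comm, mul_smul]; exact Submodule.smul_mem _ t ha
    · rw [mul_smul]; exact Submodule.smul_mem _ s hb
  smul_mem' := by
    rintro c z ⟨s, hs, hz⟩
    exact ⟨s, hs, by rw [smul_comm]; exact Submodule.smul_mem _ c hz⟩

theorem dp_mem_locSpan (e : ℕ) (m : M) : (dp A e m : DividedPowerAlgebra A M) ∈ locSpan (A := A) p e :=
  ⟨1, fun h => (inferInstance : p.IsPrime).ne_top ((Ideal.eq_top_iff_one _).mpr h),
    by rw [one_smul]; exact Submodule.subset_span ⟨m, rfl⟩⟩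

theorem mem_locSpan_of_smul {e : ℕ} {z : DividedPowerAlgebra A M} {s : A} (hs : s ∉ p)
    (h : s • z ∈ locSpan (A := A) (M := M) p e) : z ∈ locSpan (A := A) (M := M) p e := by
  obtain ⟨t, ht, h⟩ := h
  exact ⟨t * s, fun h => ((inferInstance : p.IsPrime).mem_or_mem h).elim ht hs, by rwa [mul_smul]⟩

/-- The product of two divided powers is a local combination of divided powers. -/
def PairProp (d : ℕ) : Prop :=
  ∀ (i j : ℕ) (u v : M), i + j ≤ d → dp A i u * dp A j v ∈ locSpan (A := A) (M := M) p (i + j)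

theorem dp_smul_add (e : ℕ) (c : A) (v u : M) :
    (dp A e (c • v + u) : DividedPowerAlgebra A M) =
      ∑ i ∈ Finset.range (e + 1), c ^ i • (dp A i v * dp A (e - i) u) := by
  rw [dp_add, Finset.Nat.sum_antidiagonal_eq_sum_range_succ fun i j => dp A i (c • v) * dp A j u]
  exact Finset.sum_congr rfl fun i _ => by rw [dp_smul, smul_mul_assoc]

theorem pair_of_scalars {d : ℕ}
    (h : ∀ e, e + 1 ≤ d → ∃ c : Fin e → A, (∀ l, c l ∉ p) ∧ ∀ l l', l ≠ l' → c l - c l' ∉ p) :
    PairProp (M := M) p d := by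
  intro i j u v hij
  rcases Nat.eq_zero_or_pos i with rfl | hi
  · simp only [dp_zero, one_mul, zero_add]
    exact dp_mem_locSpan p j v
  rcases Nat.eq_zero_or_pos j with rfl | hj
  · simp only [dp_zero, mul_one, add_zero]
    exact dp_mem_locSpan p i u
  obtain ⟨e, he⟩ : ∃ e, i + j = e + 1 + 1 := ⟨i + j - 2, by omega⟩
  obtain ⟨c, hc, hcc⟩ := h (e + 1) (by omega)
  let W : Fin (e + 1) → DividedPowerAlgebra A M := fun k => dp A ((k : ℕ) + 1) u * dp A (i + j - ((k : ℕ) + 1)) v
  let V : Matrix (Fin (e + 1)) (Fin (e + 1)) A := Matrix.of fun l k => c l * Matrix.vandermonde c l k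
  have hy : ∀ l, (∑ k, V l k • W k) ∈ locSpan (A := A) (M := M) p (i + j) := by
    intro l
    have h := dp_smul_add (A := A) (i + j) (c l) u v
    rw [he, Finset.sum_range_succ, Finset.sum_range_succ', ← Fin.sum_univ_eq_sum_range] at h
    simp only [pow_zero, one_smul, dp_zero, one_mul, Nat.sub_zero, Nat.sub_self, mul_one] at h
    have hW : (∑ k, V l k • W k) = dp A (e + 1 + 1) (c l • u + v) - dp A (e + 1 + 1) v - c l ^ (e + 1 + 1) • dp A (e + 1 + 1) u := by
      rw [h]
      simp only [V, W, he, Matrix.of_apply, Matrix.vandermonde_apply, ← pow_succ']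
      abel
    rw [hW, he]
    exact sub_mem (sub_mem (dp_mem_locSpan p _ _) (dp_mem_locSpan p _ _))
      (Submodule.smul_mem _ _ (dp_mem_locSpan p _ _))
  have hdet : V.det ∉ p := by
    simp only [V]
    rw [Matrix.det_mul_column, Matrix.det_vandermonde]
    intro hmem
    rcases (inferInstance : p.IsPrime).mem_or_mem hmem with hm | hm
    · obtain ⟨l, -, hl⟩ := (Ideal.IsPrime.prod_mem_iff (hp := (inferInstance : p.IsPrime))).mp hm
      exact hc l hl
    · obtain ⟨a, -, ha⟩ := (Ideal.IsPrime.prod_mem_iff (hp := (inferInstance : p.IsPrime))).mp hm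
      obtain ⟨b, hb, hab⟩ := (Ideal.IsPrime.prod_mem_iff (hp := (inferInstance : p.IsPrime))).mp ha
      exact hcc b a (Finset.mem_Ioi.mp hb).ne' hab
  let k₀ : Fin (e + 1) := ⟨i - 1, by omega⟩
  have hk₀ : W k₀ = dp A i u * dp A j v := by
    simp only [W, k₀, Nat.sub_add_cancel hi]
    rw [Nat.add_sub_cancel_left]
  refine mem_locSpan_of_smul p hdet ?_
  rw [← hk₀, show V.det • W k₀ = ∑ l, V.adjugate k₀ l • ∑ k, V l k • W k by
    simp only [Finset.smul_sum, smul_smul]
    rw [Finset.sum_comm]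
    simp only [← Finset.sum_smul, ← Matrix.mul_apply, Matrix.adjugate_mul, Matrix.smul_apply, Matrix.one_apply,
      smul_eq_mul, mul_ite, mul_one, mul_zero, ite_smul, zero_smul]
    rw [Finset.sum_ite_eq, if_pos (Finset.mem_univ _)]]
  exact sum_mem fun l _ => Submodule.smul_mem _ _ (hy l)

theorem pair_of_cyclic (d : ℕ) (h : ∃ x : M, ∀ m : M, ∃ s c : A, s ∉ p ∧ s • m = c • x) :
    PairProp (M := M) p d := by
  intro i j u v _
  obtain ⟨x, hx⟩ := h
  obtain ⟨s, c, hs, hu⟩ := hx u
  obtain ⟨s', c', hs', hv⟩ := hx v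
  refine mem_locSpan_of_smul p (s := s ^ i * s' ^ j) (fun hmem => ?_) ?_
  · rcases (inferInstance : p.IsPrime).mem_or_mem hmem with h | h
    · exact hs ((inferInstance : p.IsPrime).mem_of_pow_mem i h)
    · exact hs' ((inferInstance : p.IsPrime).mem_of_pow_mem j h)
  rw [← smul_mul_smul_comm, ← dp_smul, ← dp_smul, hu, hv, dp_smul, dp_smul, smul_mul_smul_comm, dp_mul,
    ← Nat.cast_smul_eq_nsmul A, smul_smul]
  exact Submodule.smul_mem _ _ (dp_mem_locSpan p _ _)

theorem prod_mem_locSpan {d : ℕ} (hP : PairProp (M := M) p d) (n : ℕ) :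
    ∀ (k : Fin n → ℕ) (m : Fin n → M), (∑ i, k i) ≤ d →
      ∏ i, dp A (k i) (m i) ∈ locSpan (A := A) (M := M) p (∑ i, k i) := by
  induction n with
  | zero =>
    intro k m _
    rw [Finset.univ_eq_empty, Finset.prod_empty, Finset.sum_empty, ← dp_zero (R := A) (m := (0 : M))]
    exact dp_mem_locSpan p 0 0
  | succ n ih =>
    intro k m hk
    rw [Fin.sum_univ_succ] at hk
    obtain ⟨s, hs, hz⟩ := ih (fun i => k i.succ) (fun i => m i.succ) (by omega)
    rw [Fin.prod_univ_succ, Fin.sum_univ_succ]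
    refine mem_locSpan_of_smul p hs ?_
    rw [← mul_smul_comm]
    generalize s • ∏ i : Fin n, dp A (k i.succ) (m i.succ) = z at hz
    induction hz using Submodule.span_induction with
    | mem z hz =>
      obtain ⟨w, rfl⟩ := hz
      exact hP _ _ _ _ hk
    | zero => rw [mul_zero]; exact zero_mem _
    | add a b _ _ ha hb => rw [mul_add]; exact add_mem ha hb
    | smul r a _ ha => rw [mul_smul_comm]; exact Submodule.smul_mem _ r ha

theorem span_dp_eq_gammaPiece (d : ℕ) (h : ∀ q : PrimeSpectrum A, PairProp (M := M) q.asIdeal d) :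
    Submodule.span A (Set.range (dp A d : M → DividedPowerAlgebra A M)) = PolLaw.gammaPiece A M d := by
  refine le_antisymm (Submodule.span_le.mpr ?_) (Submodule.span_le.mpr ?_)
  · rintro _ ⟨m, rfl⟩
    exact Submodule.subset_span ⟨1, fun _ => d, fun _ => m, by simp, by simp⟩
  rintro _ ⟨n, k, m, hk, rfl⟩
  let I : Ideal A :=
    (Submodule.span A (Set.range (dp A d : M → DividedPowerAlgebra A M))).comap
      (LinearMap.toSpanSingleton A _ (∏ i, dp A (k i) (m i)))
  suffices hI : I = ⊤ by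
    have h1 : (1 : A) ∈ I := hI ▸ Submodule.mem_top
    simpa [I, LinearMap.toSpanSingleton_apply] using h1
  by_contra hne
  obtain ⟨q, hq, hIq⟩ := Ideal.exists_le_maximal I hne
  obtain ⟨s, hs, hz⟩ := prod_mem_locSpan q (h ⟨q, hq.isPrime⟩) n k m hk.le
  rw [hk] at hz
  exact hs (hIq (by simpa [I, LinearMap.toSpanSingleton_apply] using hz))

theorem exists_scalars_of_card {d : ℕ} (h : (d : Cardinal) ≤ Cardinal.mk p.ResidueField) (e : ℕ) (he : e + 1 ≤ d) :
    ∃ c : Fin e → A, (∀ l, c l ∉ p) ∧ ∀ l l', l ≠ l' → c l - c l' ∉ p := by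
  classical
  have hcard : ((e + 1 : ℕ) : Cardinal) ≤ Cardinal.mk p.ResidueField := (Nat.cast_le.mpr he).trans h
  obtain ⟨ι⟩ : Nonempty (ULift.{u} (Fin (e + 1)) ↪ p.ResidueField) := by
    rw [← Cardinal.le_def]
    simpa using hcard
  have hq : ∀ z : p.ResidueField, ∃ r s : A, s ∉ p ∧ z * algebraMap A p.ResidueField s = algebraMap A p.ResidueField r := by
    intro z
    obtain ⟨a, b, hb, rfl⟩ := IsFractionRing.div_surjective (A ⧸ p) z
    obtain ⟨r, rfl⟩ := Ideal.Quotient.mk_surjective a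
    obtain ⟨s, rfl⟩ := Ideal.Quotient.mk_surjective b
    have hs : s ∉ p := fun hs => nonZeroDivisors.ne_zero hb (Ideal.Quotient.eq_zero_iff_mem.mpr hs)
    refine ⟨r, s, hs, ?_⟩
    rw [IsScalarTower.algebraMap_apply A (A ⧸ p) p.ResidueField s,
      IsScalarTower.algebraMap_apply A (A ⧸ p) p.ResidueField r]
    exact div_mul_cancel₀ _ fun h0 => hs (Ideal.algebraMap_residueField_eq_zero.mp
      (by rw [IsScalarTower.algebraMap_apply A (A ⧸ p) p.ResidueField]; exact h0))
  choose r s hs hrs using fun j : Fin (e + 1) => hq (ι ⟨j⟩)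
  -- translate so that one of the chosen classes is zero
  let c' : Fin (e + 1) → A := fun j => r j * ∏ k ∈ Finset.univ.erase j, s k
  let S : A := ∏ k, s k
  have hS : algebraMap A p.ResidueField S ≠ 0 := fun h0 => by
    obtain ⟨k, -, hk⟩ := (Ideal.IsPrime.prod_mem_iff (hp := (inferInstance : p.IsPrime))).mp
      (Ideal.algebraMap_residueField_eq_zero.mp h0)
    exact hs k hk
  have hc' : ∀ j, algebraMap A p.ResidueField (c' j) = ι ⟨j⟩ * algebraMap A p.ResidueField S := fun j => by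
    rw [map_mul, ← hrs, mul_assoc, ← map_mul, Finset.mul_prod_erase _ _ (Finset.mem_univ j)]
  have hinj : ∀ j j', c' j - c' j' ∈ p → j = j' := fun j j' hj => by
    have h0 := Ideal.algebraMap_residueField_eq_zero.mpr hj
    rw [map_sub, hc', hc', ← sub_mul, mul_eq_zero, or_iff_left hS, sub_eq_zero] at h0
    exact congrArg ULift.down (ι.injective h0)
  refine ⟨fun l => c' l.succ - c' 0, fun l hl => Fin.succ_ne_zero l (hinj _ _ hl), fun l l' hne hl => hne ?_⟩
  simp only [sub_sub_sub_cancel_right] at hl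
  exact Fin.succ_injective _ (hinj _ _ hl)

theorem exists_generator_of_localizedModule (x : LocalizedModule p.primeCompl M)
    (hx : Submodule.span (Localization.AtPrime p) {x} = ⊤) : ∃ x₀ : M, ∀ m : M, ∃ s c : A, s ∉ p ∧ s • m = c • x₀ := by
  obtain ⟨⟨x₀, t⟩, rfl⟩ : ∃ q : M × p.primeCompl, LocalizedModule.mk q.1 q.2 = x := by
    induction x using LocalizedModule.induction_on with
    | h a b => exact ⟨(a, b), rfl⟩
  refine ⟨x₀, fun m => ?_⟩
  obtain ⟨z, hz⟩ := Submodule.mem_span_singleton.mp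
    (hx.symm ▸ Submodule.mem_top : LocalizedModule.mk m 1 ∈ Submodule.span (Localization.AtPrime p) {LocalizedModule.mk x₀ t})
  induction z using Localization.induction_on with
  | H y =>
    obtain ⟨a, b⟩ := y
    rw [LocalizedModule.mk_smul_mk, LocalizedModule.mk_eq] at hz
    obtain ⟨w, hw⟩ := hz
    simp only [Submonoid.smul_def, one_smul, OneMemClass.coe_one] at hw
    refine ⟨(w : A) * ((b * t : p.primeCompl) : A), (w : A) * a, (w * (b * t)).2, ?_⟩
    rw [mul_smul, mul_smul, ← hw]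

end Groth.Agent.GammaSpan95

namespace Groth.Agent.GammaSpan95

open Polynomial in
theorem scalars_of_vandermondeRing {A : Type u} [CommRing A] (p : Ideal A) [p.IsPrime] (d : ℕ)
    (φ : (ℤ[X] ⧸ Ideal.span {(∏ j ∈ Finset.range (d + 1), ∏ i ∈ Finset.range j,
        ((X : ℤ[X]) ^ i - X ^ j)) - 1}) →+* A) (e : ℕ) (he : e + 1 ≤ d) :
    ∃ c : Fin e → A, (∀ l, c l ∉ p) ∧ ∀ l l', l ≠ l' → c l - c l' ∉ p := by
  let g : ℤ[X] →+* A := φ.comp (Ideal.Quotient.mk _)
  let τ := g X
  have h1 : g (∏ j ∈ Finset.range (d + 1), ∏ i ∈ Finset.range j, ((X : ℤ[X]) ^ i - X ^ j)) = 1 := by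
    have h0 : g ((∏ j ∈ Finset.range (d + 1), ∏ i ∈ Finset.range j, ((X : ℤ[X]) ^ i - X ^ j)) - 1) = 0 := by
      show φ (Ideal.Quotient.mk _ _) = 0
      rw [Ideal.Quotient.eq_zero_iff_mem.mpr (Ideal.mem_span_singleton_self _), map_zero]
    rwa [map_sub, map_one, sub_eq_zero] at h0
  have hd : ∀ i j, i < j → j ≤ d → τ ^ i - τ ^ j ∉ p := fun i j hij hj hmem => by
    refine (inferInstance : p.IsPrime).ne_top (Ideal.eq_top_of_isUnit_mem _ hmem ?_)
    have hu : IsUnit (g (∏ j ∈ Finset.range (d + 1), ∏ i ∈ Finset.range j, ((X : ℤ[X]) ^ i - X ^ j))) := by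
      rw [h1]; exact isUnit_one
    simp only [map_prod, IsUnit.prod_iff, map_sub, map_pow] at hu
    exact hu j (Finset.mem_range.mpr (by omega)) i (Finset.mem_range.mpr hij)
  refine ⟨fun l => τ ^ ((l : ℕ) + 1), fun l hl => ?_, fun l l' hne hl => ?_⟩
  · have hτ : τ ∈ p := (inferInstance : p.IsPrime).mem_of_pow_mem _ hl
    refine hd 1 2 one_lt_two (by have := l.2; omega) (sub_mem ?_ ?_)
    · rwa [pow_one]
    · exact Ideal.pow_mem_of_mem _ hτ 2 two_pos
  · have h2 := l.2
    have h3 := l'.2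
    rcases lt_or_gt_of_ne (Fin.val_ne_iff.mpr hne) with h | h
    · exact hd _ _ (by omega) (by omega) hl
    · exact hd ((l' : ℕ) + 1) ((l : ℕ) + 1) (by omega) (by omega) (by simpa using neg_mem hl)

end Groth.Agent.GammaSpan95
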