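import Groth.Agent.GammaSpan95.Basic
import Groth.Agent.DPow29.Construct
import Mathlib.RingTheory.LocalRing.Module
import Mathlib.RingTheory.Support
import Mathlib.LinearAlgebra.TensorProduct.RightExactness

/-!
If `Γ^d(M)` is spanned by `γ_d(m)` then residue fields are large or `M` is locally cyclic.
-/

set_option linter.unusedSectionVars false
set_option autoImplicit false

universe u

open scoped TensorProduct

namespace Groth.Agent.GammaSpan95

/-- A divided power polynomial algebra in two variables with basis. -/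
theorem exists_dpPoly_two (k : Type u) [CommRing k] :
    ∃ (P : Type u) (_ : CommRing P) (_ : Algebra k P) (x : Fin 2 → ℕ → P) (b : Module.Basis (Fin 2 →₀ ℕ) k P)
      (I : Ideal P) (γ : DividedPowers I), (∀ l, x l 1 ∈ I) ∧ (∀ l n, γ.dpow n (x l 1) = x l n) ∧
      ∀ i j, x 0 i * x 1 j = b (Finsupp.single 0 i + Finsupp.single 1 j) := by
  classical
  obtain ⟨T, _, _, _, xT, bT, hT0, hTmul, hbT⟩ := DPow29.exists_model (Fin 2) k
  let σ : MvPolynomial k ℤ →+* k := MvPolynomial.eval₂Hom (Int.castRingHom k) id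
  letI : Algebra (MvPolynomial k ℤ) k := σ.toAlgebra
  let x : Fin 2 → ℕ → k ⊗[MvPolynomial k ℤ] T := fun l n => 1 ⊗ₜ xT l n
  let b : Module.Basis (Fin 2 →₀ ℕ) k (k ⊗[MvPolynomial k ℤ] T) := bT.baseChange k
  have hx0 : ∀ l, x l 0 = 1 := fun l => by simp only [x, hT0]; rfl
  have hxmul : ∀ l n m, x l n * x l m = ((n + m).choose n : k ⊗[MvPolynomial k ℤ] T) * x l (n + m) := fun l n m => by
    simp only [x, Algebra.TensorProduct.tmul_mul_tmul, one_mul, hTmul]
    rw [← nsmul_eq_mul, ← nsmul_eq_mul, TensorProduct.tmul_smul]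
  have hb : ∀ e : Fin 2 →₀ ℕ, b e = e.prod (fun l k => x l k) := fun e => by
    rw [Module.Basis.baseChange_apply, hbT, Finsupp.prod, Finsupp.prod]
    exact map_prod (Algebra.TensorProduct.includeRight : T →ₐ[MvPolynomial k ℤ] k ⊗[MvPolynomial k ℤ] T) _ _
  obtain ⟨γ, hγ, -⟩ := DPow29.existsUnique_dividedPowers x hx0 hxmul b hb
  refine ⟨_, inferInstance, inferInstance, x, b, _, γ, fun l => DPow29.mem_gens x l le_rfl, hγ, fun i j => ?_⟩
  rw [hb, Finsupp.prod_fintype _ _ hx0, Fin.prod_univ_two]
  simp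

variable {A M : Type u} [CommRing A] [AddCommGroup M] [Module A M]

theorem not_span_of_small {p : Ideal A} [p.IsPrime] {d : ℕ} (hk : Cardinal.mk p.ResidueField < (d : Cardinal))
    (f : M →ₗ[A] (Fin 2 → p.ResidueField)) (m₁ m₂ : M) (h₁ : f m₁ = Pi.single 0 1) (h₂ : f m₂ = Pi.single 1 1) :
    Submodule.span A (Set.range (DividedPowerAlgebra.dp A d : M → DividedPowerAlgebra A M)) ≠
      PolLaw.gammaPiece A M d := by
  classical
  intro hspan
  have : Finite p.ResidueField := Cardinal.lt_aleph0_iff_finite.mp (hk.trans (Cardinal.natCast_lt_aleph0))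
  obtain ⟨P, _, _, x, b, I, γ, hxI, hγ, hb⟩ := exists_dpPoly_two p.ResidueField
  letI : Algebra A P := Algebra.compHom P (algebraMap A p.ResidueField)
  haveI : IsScalarTower A p.ResidueField P := IsScalarTower.of_algebraMap_eq fun _ => rfl
  let g₀ : (Fin 2 → p.ResidueField) →ₗ[p.ResidueField] P :=
    (Pi.basisFun p.ResidueField (Fin 2)).constr p.ResidueField fun l => x l 1
  let g : M →ₗ[A] P := (g₀.restrictScalars A).comp f
  have hg₀ : ∀ v, g₀ v = ∑ l, v l • x l 1 := fun v => by
    simp [g₀, Module.Basis.constr_apply_fintype]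
  have hgI : ∀ m, g m ∈ I := fun m => by
    show g₀ (f m) ∈ I
    rw [hg₀]
    exact sum_mem fun l _ => Submodule.smul_of_tower_mem I _ (hxI l)
  let Φ : DividedPowerAlgebra A M →ₐ[A] P := DividedPowerAlgebra.lift γ g hgI
  -- the finitely many lines
  let reps : Option p.ResidueField → P := fun o =>
    γ.dpow d (g₀ (o.elim (Pi.single 1 1) fun c => ![1, c]))
  let L : Submodule p.ResidueField P := Submodule.span p.ResidueField (Set.range reps)
  have hline : ∀ v : Fin 2 → p.ResidueField, γ.dpow d (g₀ v) ∈ L := by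
    intro v
    obtain ⟨c, o, hco⟩ : ∃ (c : p.ResidueField) (o : Option p.ResidueField),
        v = c • (o.elim (Pi.single 1 1) fun c => ![1, c]) := by
      rcases eq_or_ne (v 0) 0 with h0 | h0
      · exact ⟨v 1, none, funext fun l => by fin_cases l <;> simp [h0]⟩
      · exact ⟨v 0, some (v 1 / v 0), funext fun l => by fin_cases l <;> simp [mul_div_cancel₀ _ h0]⟩
    have hmem : g₀ (o.elim (Pi.single 1 1) fun c => ![1, c]) ∈ I := by
      rw [hg₀]; exact sum_mem fun l _ => Submodule.smul_of_tower_mem I _ (hxI l)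
    rw [hco, map_smul, Algebra.smul_def, γ.dpow_mul hmem, ← map_pow, ← Algebra.smul_def]
    exact Submodule.smul_mem _ _ (Submodule.subset_span ⟨o, rfl⟩)
  have hle : ∀ z ∈ Submodule.span A (Set.range (DividedPowerAlgebra.dp A d : M → DividedPowerAlgebra A M)),
      Φ z ∈ L := by
    intro z hz
    refine (Submodule.span_le.mpr ?_ : _ ≤ (L.restrictScalars A).comap Φ.toLinearMap) hz
    rintro _ ⟨m, rfl⟩
    show Φ (DividedPowerAlgebra.dp A d m) ∈ L
    rw [DividedPowerAlgebra.lift_apply_dp]
    exact hline (f m)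
  -- the monomials
  have hmon : ∀ i : Fin (d + 1), b (Finsupp.single 0 (i : ℕ) + Finsupp.single 1 (d - i)) ∈ L := by
    intro i
    rw [← hb, ← hγ 0, ← hγ 1]
    have h := hle (DividedPowerAlgebra.dp A (i : ℕ) m₁ * DividedPowerAlgebra.dp A (d - i) m₂) (hspan ▸
      Submodule.subset_span ⟨2, ![(i : ℕ), d - i], ![m₁, m₂], by simp [Fin.sum_univ_two]; omega, by
        simp [Fin.prod_univ_two]⟩)
    rw [map_mul, DividedPowerAlgebra.lift_apply_dp, DividedPowerAlgebra.lift_apply_dp] at h
    have e₁ : g m₁ = x 0 1 := by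
      show g₀ (f m₁) = _
      rw [h₁, hg₀]; simp [Fin.sum_univ_two]
    have e₂ : g m₂ = x 1 1 := by
      show g₀ (f m₂) = _
      rw [h₂, hg₀]; simp [Fin.sum_univ_two]
    rwa [e₁, e₂] at h
  have hinj : Function.Injective fun i : Fin (d + 1) => Finsupp.single (0 : Fin 2) (i : ℕ) + Finsupp.single 1 (d - i) :=
    fun i j hij => Fin.ext (by simpa using DFunLike.congr_fun hij 0)
  have hli : LinearIndependent p.ResidueField fun i : Fin (d + 1) =>
      (⟨_, hmon i⟩ : L) := LinearIndependent.of_comp L.subtype (b.linearIndependent.comp _ hinj)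
  have : Fintype p.ResidueField := Fintype.ofFinite _
  have : Module.Finite p.ResidueField L := Module.Finite.span_of_finite _ (Set.finite_range reps)
  have hcard := hli.fintype_card_le_finrank
  have hrank : Module.finrank p.ResidueField L ≤ Fintype.card (Option p.ResidueField) :=
    finrank_range_le_card reps
  rw [Fintype.card_fin] at hcard
  rw [Fintype.card_option] at hrank
  rw [Cardinal.mk_fintype, Nat.cast_lt] at hk
  omega

theorem card_or_cyclic [Module.Finite A M] (d : ℕ)
    (h : Submodule.span A (Set.range (DividedPowerAlgebra.dp A d : M → DividedPowerAlgebra A M)) =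
      PolLaw.gammaPiece A M d) (p : Ideal A) [p.IsPrime] :
    (d : Cardinal) ≤ Cardinal.mk p.ResidueField ∨
      ∃ x : LocalizedModule p.primeCompl M, Submodule.span (Localization.AtPrime p) {x} = ⊤ := by
  classical
  by_cases hk : (d : Cardinal) ≤ Cardinal.mk p.ResidueField
  · exact Or.inl hk
  refine Or.inr ?_
  -- a single element generating the fibre
  obtain ⟨x, hx⟩ : ∃ x : M, ∀ m : M, ∃ c : p.ResidueField, (1 : p.ResidueField) ⊗ₜ[A] m = c • ((1 : p.ResidueField) ⊗ₜ[A] x) := by
    by_contra! hno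
    obtain ⟨m, hm⟩ : ∃ m : M, (1 : p.ResidueField) ⊗ₜ[A] m ≠ 0 := by
      obtain ⟨m, hm⟩ := hno 0
      exact ⟨m, fun h0 => hm 0 (by rw [h0, zero_smul])⟩
    obtain ⟨m', hm'⟩ := hno m
    have hind : LinearIndependent p.ResidueField ![(1 : p.ResidueField) ⊗ₜ[A] m, (1 : p.ResidueField) ⊗ₜ[A] m'] :=
      (LinearIndependent.pair_iff' hm).mpr fun c hc => hm' c hc.symm
    let ι := Fintype.linearCombination p.ResidueField ![(1 : p.ResidueField) ⊗ₜ[A] m, (1 : p.ResidueField) ⊗ₜ[A] m']
    obtain ⟨r, hr⟩ := ι.exists_leftInverse_of_injective (LinearMap.ker_eq_bot.mpr hind.fintypeLinearCombination_injective)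
    let f : M →ₗ[A] (Fin 2 → p.ResidueField) :=
      (r.restrictScalars A).comp ((TensorProduct.mk A p.ResidueField M) 1)
    have hr' : ∀ v, r (ι v) = v := fun v => DFunLike.congr_fun hr v
    refine not_span_of_small (lt_of_not_ge hk) f m m' ?_ ?_ h
    · rw [← hr' (Pi.single 0 1)]
      simp [f, ι, Fintype.linearCombination_apply_single]
    · rw [← hr' (Pi.single 1 1)]
      simp [f, ι, Fintype.linearCombination_apply_single]
  have key : ∀ m : M, ∃ s ∉ p, ∃ c : A, s • m = c • x := by
    let N := Submodule.span A {x}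
    have hsupp : (⟨p, inferInstance⟩ : PrimeSpectrum A) ∉ Module.support A (M ⧸ N) := by
      rw [Module.mem_support_iff_nontrivial_residueField_tensorProduct, not_nontrivial_iff_subsingleton]
      refine subsingleton_of_forall_eq 0 fun z => ?_
      induction z using TensorProduct.induction_on with
      | zero => rfl
      | tmul c q =>
        obtain ⟨m, rfl⟩ := Submodule.Quotient.mk_surjective N q
        obtain ⟨a, ha⟩ := hx m
        have h' := congrArg (N.mkQ.lTensor p.ResidueField) ha
        rw [TensorProduct.smul_tmul', LinearMap.lTensor_tmul, LinearMap.lTensor_tmul,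
          show N.mkQ x = 0 from (Submodule.Quotient.mk_eq_zero _).mpr (Submodule.mem_span_singleton_self x),
          TensorProduct.tmul_zero] at h'
        rw [show c ⊗ₜ[A] (Submodule.Quotient.mk m : M ⧸ N) = c • ((1 : p.ResidueField) ⊗ₜ[A] N.mkQ m) by
          simp [TensorProduct.smul_tmul'], h', smul_zero]
      | add a b ha hb => rw [ha, hb, add_zero]
    intro m
    rw [Module.notMem_support_iff'] at hsupp
    obtain ⟨s, hs, hs0⟩ := hsupp (Submodule.Quotient.mk m)
    rw [← Submodule.Quotient.mk_smul, Submodule.Quotient.mk_eq_zero] at hs0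
    obtain ⟨c, hc⟩ := Submodule.mem_span_singleton.mp hs0
    exact ⟨s, hs, c, hc.symm⟩
  refine ⟨LocalizedModule.mk x 1, eq_top_iff.mpr fun z _ => ?_⟩
  induction z using LocalizedModule.induction_on with
  | h m t =>
    obtain ⟨s, hs, c, hc⟩ := key m
    refine Submodule.mem_span_singleton.mpr ⟨Localization.mk c (⟨s, hs⟩ * t), ?_⟩
    rw [LocalizedModule.mk_smul_mk, LocalizedModule.mk_eq]
    exact ⟨1, by simp [Submonoid.smul_def, mul_smul]; rw [← hc, smul_comm]⟩

end Groth.Agent.GammaSpan95
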